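import Groth.Agent.KoszOrthLib.DQCohCoprod
import Groth.Agent.S1003

/-!
# Coproduct-preserving right adjoints and perfect direct images
-/

set_option autoImplicit false
set_option linter.style.haveILetI false
set_option linter.unusedSectionVars false
set_option backward.isDefEq.respectTransparency false
set_option backward.isDefEq.respectTransparency.types false
set_option maxHeartbeats 1000000

universe w u

open CategoryTheory CategoryTheory.Limits AlgebraicGeometry
open PerfCompLib (FinFac cut)

attribute [local instance] HasDerivedCategory.standard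

namespace Groth.Agent.TorIndAdjLib

section Abstract

variable {D E : Type*} [Category D] [Category E] [Preadditive D] [Preadditive E]

theorem map_cut (G : E ⥤ D) [G.Additive] {J : Type w} (X : J → E) [HasCoproduct X]
    [HasCoproduct fun j => G.obj (X j)] (S : Finset J) :
    sigmaComparison G X ≫ G.map (cut X S) = cut (fun j => G.obj (X j)) S ≫ sigmaComparison G X := by
  classical
  refine Limits.Sigma.hom_ext _ _ fun j => ?_
  rw [ι_comp_sigmaComparison_assoc, ← G.map_comp, PerfCompLib.ι_cut, ← Category.assoc, PerfCompLib.ι_cut]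
  split_ifs
  · rw [ι_comp_sigmaComparison]
  · rw [G.map_zero, zero_comp]

/-- A left adjoint of a coproduct preserving functor keeps finite factorisation. -/
theorem finFac_of_adj {F : D ⥤ E} {G : E ⥤ D} (adj : F ⊣ G) [G.Additive] {J : Type w} (X : J → E)
    [HasCoproduct X] [HasCoproduct fun j => G.obj (X j)] [IsIso (sigmaComparison G X)] {T : D}
    (h : FinFac (fun j => G.obj (X j)) T) : FinFac X (F.obj T) := fun v => by
  obtain ⟨S, hS⟩ := h (adj.homEquiv _ _ v ≫ inv (sigmaComparison G X))
  refine ⟨S, (adj.homEquiv _ _).injective ?_⟩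
  rw [adj.homEquiv_naturality_right]
  calc adj.homEquiv _ _ v ≫ G.map (cut X S)
      = (adj.homEquiv _ _ v ≫ inv (sigmaComparison G X)) ≫ sigmaComparison G X ≫ G.map (cut X S) := by
        simp
    _ = _ := by rw [map_cut, ← Category.assoc, hS]; simp

end Abstract

variable {X Y : Scheme.{u}}

/-- If the right adjoint preserves coproducts, the direct image preserves perfect complexes. -/
theorem isPerfect_rpush [CompactSpace X] [QuasiSeparatedSpace X] [CompactSpace Y]
    [QuasiSeparatedSpace Y] (f : X ⟶ Y) [DCoh.HasRpush f] (h : DCoh.RpushPreservesQCoh f)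
    (A : DCoh.DQCoh Y ⥤ DCoh.DQCoh X) (adj : DCoh.RpushQ f h ⊣ A)
    [∀ J : Type u, PreservesColimitsOfShape (Discrete J) A] (K : DCoh.D X) (hK : DCoh.IsPerfect K) :
    DCoh.IsPerfect ((DCoh.Rpush f).obj K) := by
  have hKq : DCoh.IsQCohD K := KoszOrthLib.isQCohD_of_isPerfect hK
  refine (Groth.Agent.S1003.result Y _ (h K hKq)).1 fun J M _ hM => ?_
  refine KoszOrthLib.bijective_of_finFac' ?_
  obtain ⟨_, _⟩ := QRlimLib.exists_isTriangulated_rpush f
  haveI : (DCoh.RpushQ f h).Additive := ⟨fun {U V p q} => (DCoh.IsQCohD (X := Y)).ι.map_injective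
    ((ObjectProperty.ι DCoh.IsQCohD ⋙ DCoh.Rpush f).map_add (f := p) (g := q))⟩
  haveI : A.Additive := adj.right_adjoint_additive
  haveI : HasCoproducts.{u} (DCoh.DQCoh X) := fun J => KoszOrthLib.hasCoproductsQ J
  haveI : HasCoproducts.{u} (DCoh.DQCoh Y) := fun J => KoszOrthLib.hasCoproductsQ J
  let M' : J → DCoh.DQCoh Y := fun j => ⟨M j, hM j⟩
  haveI : IsIso (sigmaComparison A M') := inferInstance
  have h₁ : FinFac M' ((DCoh.RpushQ f h).obj ⟨K, hKq⟩) :=
    finFac_of_adj adj M' (KoszOrthLib.finFac_DQCoh _ _ hK)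
  let ι := (DCoh.IsQCohD (X := Y)).ι
  haveI : HasCoproduct fun j => ι.obj (M' j) := ‹HasCoproduct M›
  intro v
  let c := PreservesCoproduct.iso ι M'
  obtain ⟨S, hS⟩ := h₁ (ι.preimage (v ≫ c.inv))
  refine ⟨S, ?_⟩
  have h2 := congrArg ι.map hS
  rw [ι.map_comp, ι.map_preimage, Category.assoc] at h2
  have h3 := map_cut ι M' S
  rw [← cancel_mono c.inv, Category.assoc]
  refine Eq.trans ?_ h2
  rw [PreservesCoproduct.inv_hom]
  exact congrArg (v ≫ ·) h3.symm

end Groth.Agent.TorIndAdjLib
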