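import Groth.Agent.TorIndAdjLib.Basic
import Groth.Agent.TorIndAdjLib.Perfect
import Groth.Agent.KerBddLib.Detect
import Groth.Agent.KoszOrthLib.Neg
import Groth.Agent.Dual3Lib.VanishCases
import Groth.Agent.IndCohLib.Ext

/-!
# Boundedness and coproducts for the base change of a right adjoint
-/

set_option autoImplicit false
set_option linter.style.haveILetI false
set_option linter.unusedSectionVars false
set_option backward.isDefEq.respectTransparency false
set_option backward.isDefEq.respectTransparency.types false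
set_option maxHeartbeats 1000000
set_option synthInstance.maxHeartbeats 200000

universe u

open CategoryTheory CategoryTheory.Limits AlgebraicGeometry CategoryTheory.Pretriangulated

attribute [local instance] HasDerivedCategory.standard

namespace Groth.Agent.TorIndAdjLib

/-- A uniform bound for the direct image. -/
theorem exists_isLE_rpush {X S : Scheme.{u}} (f : X ⟶ S) [QuasiCompact f] [QuasiSeparated f]
    [CompactSpace S] [DCoh.HasRpush f] :
    ∃ N : ℤ, ∀ (E : DCoh.D X), DCoh.IsQCohD E → ∀ n : ℤ, E.IsLE n → ((DCoh.Rpush f).obj E).IsLE (n + N) := by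
  obtain ⟨N, hN⟩ := QRlimLib.exists_uniform_bound f
  exact ⟨N, fun E hE n hn => (DerivedCategory.isLE_iff _ _).2 fun i hi => hN E hE n hn i hi.le⟩

/-- An affine direct image detects upper bounds. -/
theorem isLE_of_rpush_affine {X Y : Scheme.{u}} (f : X ⟶ Y) [IsAffineHom f] [DCoh.HasRpush f]
    (E : DCoh.D X) (hE : DCoh.IsQCohD E) (n : ℤ) (h : ((DCoh.Rpush f).obj E).IsLE n) : E.IsLE n :=
  (DerivedCategory.isLE_iff _ _).2 fun i hi =>
    KerBddLib.isZero_HD_of_rpush_affine f E hE i ((DerivedCategory.isLE_iff _ _).1 h i hi)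

/-- An affine direct image detects isomorphisms. -/
theorem reflectsIso_rpushQ_affine {X Y : Scheme.{u}} (f : X ⟶ Y) [IsAffineHom f] [DCoh.HasRpush f]
    (h : DCoh.RpushPreservesQCoh f) : (DCoh.RpushQ f h).ReflectsIsomorphisms := ⟨fun {A B} u _ => by
  obtain ⟨_, _⟩ := QRlimLib.exists_isTriangulated_rpush f
  obtain ⟨C, v, w, hT⟩ := distinguished_cocone_triangle u.hom
  have hu : IsIso ((DCoh.Rpush f).map u.hom) :=
    inferInstanceAs (IsIso ((DCoh.IsQCohD (X := Y)).ι.map ((DCoh.RpushQ f h).map u)))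
  have hC : IsZero ((DCoh.Rpush f).obj C) :=
    (((DCoh.Rpush f).mapTriangle.obj (Triangle.mk u.hom v w)).isZero₃_iff_isIso₁
      ((DCoh.Rpush f).map_distinguished _ hT)).2 hu
  have hCq : DCoh.IsQCohD C := KFlatLib.isQCohD₂ (rot_of_distTriang _ hT) B.property
    (KFlatLib.isQCohD_shift A.property 1)
  have hC0 : IsZero C := (DCohRestrLib.isZero_iff_HD C).2 fun i =>
    KerBddLib.isZero_HD_of_rpush_affine f C hCq i ((DerivedCategory.homologyFunctor _ i).map_isZero hC)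
  haveI : IsIso u.hom := ((Triangle.mk u.hom v w).isZero₃_iff_isIso₁ hT).1 hC0
  haveI : IsIso ((DCoh.IsQCohD (X := X)).ι.map u) := ‹IsIso u.hom›
  exact isIso_of_fully_faithful (DCoh.IsQCohD (X := X)).ι u⟩

/-- `Rf_*` on `DQCoh` preserves coproducts. -/
theorem preservesCoproducts_rpushQ {X Y : Scheme.{u}} [CompactSpace X] [QuasiSeparatedSpace X]
    (f : X ⟶ Y) [QuasiCompact f] [QuasiSeparated f] [DCoh.HasRpush f]
    (h : DCoh.RpushPreservesQCoh f) (J : Type u) :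
    PreservesColimitsOfShape (Discrete J) (DCoh.RpushQ f h) := by
  haveI := KoszOrthLib.isLeftAdjoint_rpushQ f h
  infer_instance

/-- Upper bounds for the first object of a triangle. -/
theorem isLE_obj₁ {X : Scheme.{u}} (T : Triangle (DCoh.D X)) (hT : T ∈ distTriang (DCoh.D X)) (m a b : ℤ)
    (h₂ : T.obj₂.IsLE a) (h₃ : T.obj₃.IsLE b) (ha : a ≤ m) (hb : b + 1 ≤ m) : T.obj₁.IsLE m := by
  let t := DerivedCategory.TStructure.t (C := X.Modules)
  haveI : t.IsLE T.obj₂ a := h₂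
  haveI : t.IsLE T.obj₃ b := h₃
  haveI : t.IsLE T.obj₂ m := t.isLE_of_le _ a m ha
  haveI : t.IsLE (T.obj₃⟦(-1 : ℤ)⟧) (b + 1) := t.isLE_shift _ b (-1) (b + 1) (by omega)
  haveI : t.IsLE (T.obj₃⟦(-1 : ℤ)⟧) m := t.isLE_of_le _ (b + 1) m hb
  exact @Triangulated.TStructure.isLE₂ _ _ _ _ _ _ _ DerivedCategory.TStructure.t _
    (inv_rot_of_distTriang _ hT) m ‹_› ‹_›

/-- Upper bounds for the middle object of a triangle. -/
theorem isLE_obj₂ {X : Scheme.{u}} (T : Triangle (DCoh.D X)) (hT : T ∈ distTriang (DCoh.D X)) (m a b : ℤ)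
    (h₁ : T.obj₁.IsLE a) (h₃ : T.obj₃.IsLE b) (ha : a ≤ m) (hb : b ≤ m) : T.obj₂.IsLE m := by
  let t := DerivedCategory.TStructure.t (C := X.Modules)
  haveI : t.IsLE T.obj₁ a := h₁
  haveI : t.IsLE T.obj₃ b := h₃
  exact @Triangulated.TStructure.isLE₂ _ _ _ _ _ _ _ DerivedCategory.TStructure.t _
    hT m (t.isLE_of_le _ a m ha) (t.isLE_of_le _ b m hb)

/-- Pushing forward a restriction does not spread the support into an open where the object vanishes. -/
theorem isZero_restrict_rpush_restrict {Z : Scheme.{u}} (U W : Z.Opens) [DCoh.HasRpush U.ι]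
    (K : DCoh.D Z) (h : IsZero ((DCoh.restrictD W.ι).obj K)) :
    IsZero ((DCoh.restrictD W.ι).obj ((DCoh.Rpush U.ι).obj ((DCoh.restrictD U.ι).obj K))) := by
  haveI := DCohRestrLib.hasRpush (U.ι ∣_ W)
  let E := (DCoh.restrictD U.ι).obj K
  have h0 : IsZero ((DCoh.restrictD (U.ι ⁻¹ᵁ W).ι).obj E) :=
    (DCohRestrLib.isZero_restrictD_iff _ E).2 fun i x hx hx' =>
      (DCohRestrLib.isZero_restrictD_iff W K).1 h i _ hx
        ((Set.ext_iff.1 (DCohRestrLib.support_HD_restrictD U.ι K i) x).1 hx')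
  obtain ⟨e⟩ := DCohRestrLib.nonempty_restrictD_Rpush U.ι W
  exact (DCohRestrLib.isZero_Rpush (U.ι ∣_ W) h0).of_iso (e.app E)

variable {X Y X' Y' : Scheme.{u}} {f : X ⟶ Y} {g : Y' ⟶ Y} {f' : X' ⟶ Y'} {g' : X' ⟶ X}
  [DCoh.HasRpush f] [DCoh.HasRpush f'] [DCoh.HasRpush g] [DCoh.HasRpush g'] [DCoh.HasLpull g]
  [DCoh.HasLpull g'] {hf : DCoh.RpushPreservesQCoh f} {hf' : DCoh.RpushPreservesQCoh f'}
  {hg : DCoh.RpushPreservesQCoh g} {hg' : DCoh.RpushPreservesQCoh g'}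
  {hLg : Dual3.LpullPreservesQCoh g} {hLg' : Dual3.LpullPreservesQCoh g'}
  [CompactSpace X] [QuasiSeparatedSpace X] [CompactSpace Y] [QuasiSeparatedSpace Y]
  [CompactSpace X'] [QuasiSeparatedSpace X'] [CompactSpace Y'] [QuasiSeparatedSpace Y']
  (hsq : IsPullback g' f' f g)
  (htor : ∀ (U : Y.Opens), IsAffineOpen U → ∀ (U' : Y'.Opens), IsAffineOpen U' → ∀ (hU' : U' ≤ g ⁻¹ᵁ U)
    (V : X.Opens), IsAffineOpen V → ∀ (hV : V ≤ f ⁻¹ᵁ U) (i : ℕ), 0 < i →
    Subsingleton (@DRing.Tor Γ(Y, U) _ i Γ(Y', U') Γ(X, V) _ (g.appLE U U' hU').hom.toModule _ (f.appLE U V hV).hom.toModule))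
  {a : DCoh.DQCoh Y ⥤ DCoh.DQCoh X} {a' : DCoh.DQCoh Y' ⥤ DCoh.DQCoh X'}
  (adj : DCoh.RpushQ f hf ⊣ a) (adj' : DCoh.RpushQ f' hf' ⊣ a')
  (adjg : Dual3.LpullQ g hLg ⊣ DCoh.RpushQ g hg) (adjg' : Dual3.LpullQ g' hLg' ⊣ DCoh.RpushQ g' hg')

include hsq htor adj adj' adjg adjg'

/-- Boundedness on objects pushed forward from a small affine open. -/
theorem exists_bound_small (hbd : ∃ d : ℤ, ∀ (K : DCoh.DQCoh Y) (n : ℤ), K.obj.IsLE n → (a.obj K).obj.IsLE (n + d))
    {U : Y.Opens} (hU : IsAffineOpen U) {U' : Y'.Opens} (hU' : IsAffineOpen U') (hle : U' ≤ g ⁻¹ᵁ U) :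
    ∃ (_ : DCoh.HasRpush U'.ι) (hj : DCoh.RpushPreservesQCoh U'.ι) (c : ℤ),
      ∀ (L : DCoh.DQCoh (U' : Scheme.{u})) (n : ℤ), L.obj.IsLE n →
        (a'.obj ((DCoh.RpushQ U'.ι hj).obj L)).obj.IsLE (n + c) := by
  obtain ⟨_, _, _, _, _, _, h₁, hj, hj', hg₁, A, adj₁, haff, ⟨e⟩, ⟨e'⟩⟩ :=
    exists_local hsq htor adj adj' adjg adjg' hU hU' hle
  haveI := haff
  haveI : IsAffine (U' : Scheme.{u}) := hU'
  haveI : QuasiCompact g := quasiCompact_of_compactSpace g
  haveI : QuasiCompact U'.ι := quasiCompact_of_compactSpace _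
  haveI : QuasiCompact (f' ⁻¹ᵁ U').ι := quasiCompact_of_compactSpace _
  obtain ⟨d, hd⟩ := hbd
  obtain ⟨N₁, hN₁⟩ := exists_isLE_rpush U'.ι
  obtain ⟨N₂, hN₂⟩ := exists_isLE_rpush g
  obtain ⟨N₃, hN₃⟩ := exists_isLE_rpush (f' ⁻¹ᵁ U').ι
  refine ⟨inferInstance, hj, N₁ + N₂ + d + N₃, fun L n hn => ?_⟩
  have h2 := hd ((DCoh.RpushQ g hg).obj ((DCoh.RpushQ U'.ι hj).obj L)) (n + N₁ + N₂)
    (hN₂ _ ((DCoh.RpushQ U'.ι hj).obj L).property _ (hN₁ _ L.property n hn))
  have h3 := KoszOrthLib.isLE_restrictD (f ⁻¹ᵁ U).ι _ _ h2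
  have h4 : (A.obj L).obj.IsLE (n + N₁ + N₂ + d) :=
    isLE_of_rpush_affine _ _ (A.obj L).property _
      (@DerivedCategory.TStructure.t.isLE_of_iso _ _ _ _ _ _ _ _ _
        ((DCoh.IsQCohD).ι.mapIso (e'.app L)).symm _ h3)
  have h5 := hN₃ _ (A.obj L).property _ h4
  rw [show n + (N₁ + N₂ + d + N₃) = n + N₁ + N₂ + d + N₃ by ring]
  exact @DerivedCategory.TStructure.t.isLE_of_iso _ _ _ _ _ _ _ _ _
    ((DCoh.IsQCohD).ι.mapIso (e.app L)) _ h5

/-- **The base change of a bounded above right adjoint is bounded above.** -/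
theorem exists_bound_main (hbd : ∃ d : ℤ, ∀ (K : DCoh.DQCoh Y) (n : ℤ), K.obj.IsLE n → (a.obj K).obj.IsLE (n + d)) :
    ∃ d' : ℤ, ∀ (K' : DCoh.DQCoh Y') (n : ℤ), K'.obj.IsLE n → (a'.obj K').obj.IsLE (n + d') := by
  classical
  let t := DerivedCategory.TStructure.t (C := X'.Modules)
  obtain ⟨_, _⟩ := QRlimLib.exists_isTriangulated_rpush f'
  haveI : (DCoh.RpushQ f' hf').IsTriangulated :=
    ObjectProperty.isTriangulated_lift _ ((DCoh.IsQCohD (X := X')).ι ⋙ DCoh.Rpush f') _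
  letI := adj'.rightAdjointCommShift ℤ
  haveI := adj'.commShift_of_leftAdjoint ℤ
  haveI : a'.IsTriangulated := adj'.isTriangulated_rightAdjoint
  have hcov : ∀ y : Y', ∃ V : Y'.Opens, y ∈ V ∧ IsAffineOpen V ∧ ∃ U : Y.Opens, IsAffineOpen U ∧ V ≤ g ⁻¹ᵁ U := fun y => by
    obtain ⟨U, hU, hy, -⟩ := exists_isAffineOpen_mem_and_subset (X := Y) (x := g y) (U := ⊤) trivial
    obtain ⟨V, hV, hyV, hle⟩ := exists_isAffineOpen_mem_and_subset (X := Y') (x := y) (U := g ⁻¹ᵁ U) hy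
    exact ⟨V, hyV, hV, U, hU, hle⟩
  choose V hyV hV U hU hle using hcov
  obtain ⟨s, hs⟩ := isCompact_univ.elim_finite_subcover (fun y => (V y : Set Y')) (fun y => (V y).2)
    fun y _ => Set.mem_iUnion.2 ⟨y, hyV y⟩
  suffices H : ∀ r : Finset Y', ∃ d : ℤ, ∀ (K : DCoh.DQCoh Y') (n : ℤ), K.obj.IsLE n →
      (∀ y ∈ s, y ∉ r → IsZero ((DCoh.restrictD (V y).ι).obj K.obj)) → (a'.obj K).obj.IsLE (n + d) by
    obtain ⟨d, hd⟩ := H s
    exact ⟨d, fun K n hn => hd K n hn fun y hy hy' => absurd hy hy'⟩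
  intro r
  induction r using Finset.induction_on with
  | empty =>
    refine ⟨0, fun K n _ hz => ?_⟩
    have hK : IsZero K.obj := (DCohRestrLib.isZero_iff_HD _).2 fun i =>
      (DCohRestrLib.isZero_iff_support_empty _).2 (Set.eq_empty_iff_forall_notMem.2 fun y hy => by
        obtain ⟨z, hz', hyz⟩ := Set.mem_iUnion₂.1 (hs (Set.mem_univ y))
        exact (DCohRestrLib.isZero_restrictD_iff _ _).1 (hz z hz' (Finset.notMem_empty z)) i y hyz hy)
    have hK' : IsZero K := by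
      rw [IsZero.iff_id_eq_zero]
      exact ObjectProperty.hom_ext _ (hK.eq_of_src _ _)
    exact t.isLE_of_isZero ((DCoh.IsQCohD (X := X')).ι.map_isZero (a'.map_isZero hK')) _
  | insert y₀ r _ ih =>
    obtain ⟨d, hd⟩ := ih
    obtain ⟨_, hj, c, hc⟩ := exists_bound_small hsq htor adj adj' adjg adjg' hbd (hU y₀) (hV y₀) (hle y₀)
    haveI : IsAffine (V y₀ : Scheme.{u}) := hV y₀
    haveI : QuasiCompact (V y₀).ι := quasiCompact_of_compactSpace _
    obtain ⟨N, hN⟩ := exists_isLE_rpush (V y₀).ι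
    let adjV := KoszOrthLib.restrictRpushAdj (V y₀).ι
    refine ⟨max c (max 0 (N + 1) + d), fun K n hn hz => ?_⟩
    let L : DCoh.DQCoh (V y₀ : Scheme.{u}) :=
      ⟨(DCoh.restrictD (V y₀).ι).obj K.obj, KoszOrthLib.isQCohD_restrictD _ K.property⟩
    have hL : L.obj.IsLE n := KoszOrthLib.isLE_restrictD _ _ _ hn
    let η : K ⟶ (DCoh.RpushQ (V y₀).ι hj).obj L := ObjectProperty.homMk (adjV.unit.app K.obj)
    obtain ⟨C, v, w, hT⟩ := distinguished_cocone_triangle₁ η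
    have hT' := (DCoh.IsQCohD (X := Y')).ι.map_distinguished _ hT
    have h3 : ((DCoh.Rpush (V y₀).ι).obj L.obj).IsLE (n + N) := hN _ L.property n hL
    have hC : C.obj.IsLE (n + max 0 (N + 1)) :=
      isLE_obj₁ _ hT' (n + max 0 (N + 1)) n (n + N) hn h3 (by omega) (by omega)
    have hzC : ∀ y ∈ s, y ∉ r → IsZero ((DCoh.restrictD (V y).ι).obj C.obj) := by
      intro y hy hyr
      let R := DCoh.restrictD (V y).ι
      refine ((R.mapTriangle.obj _).isZero₁_iff_isIso₂ (R.map_distinguished _ hT')).2 ?_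
      show IsIso (R.map (adjV.unit.app K.obj))
      by_cases h : y = y₀
      · subst h
        exact KoszOrthLib.isIso_restrictD_unit _ adjV K.obj
      · have h0 := hz y hy (fun hm => (Finset.mem_insert.1 hm).elim h hyr)
        have h1 : IsZero (R.obj ((DCoh.Rpush (V y₀).ι).obj L.obj)) :=
          isZero_restrict_rpush_restrict (V y₀) (V y) K.obj h0
        exact ⟨0, h0.eq_of_src _ _, h1.eq_of_src _ _⟩
    have h4 := hd C _ hC hzC
    have h5 := hc L n hL
    exact isLE_obj₂ _ ((DCoh.IsQCohD (X := X')).ι.map_distinguished _ (a'.map_distinguished _ hT))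
      (n + max c (max 0 (N + 1) + d)) (n + max 0 (N + 1) + d) (n + c) h4 h5 (by omega) (by omega)

/-- **The base change of a coproduct preserving right adjoint preserves coproducts.** -/
theorem preservesCoproducts_main [∀ J : Type u, PreservesColimitsOfShape (Discrete J) a] (J : Type u) :
    PreservesColimitsOfShape (Discrete J) a' := by
  haveI : QuasiCompact f' := quasiCompact_of_compactSpace f'
  haveI : QuasiSeparated f' := inferInstance
  refine KoszOrthLib.preservesCoproducts_rightAdjoint f' hf' (fun K hK => ?_) a' adj' J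
  rw [PerfLib.isPerfect_iff]
  intro y
  obtain ⟨U, hU, hy, -⟩ := exists_isAffineOpen_mem_and_subset (X := Y) (x := g y) (U := ⊤) trivial
  obtain ⟨U', hU', hyU', hle⟩ := exists_isAffineOpen_mem_and_subset (X := Y') (x := y) (U := g ⁻¹ᵁ U) hy
  obtain ⟨_, _, _, _, _, _, h₁, hj, hj', hg₁, A, adj₁, haff, -, ⟨e'⟩⟩ :=
    exists_local hsq htor adj adj' adjg adjg' hU hU' hle
  haveI := haff
  haveI : IsAffine (U' : Scheme.{u}) := hU'
  haveI : QuasiCompact f := quasiCompact_of_compactSpace f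
  haveI : QuasiCompact g := quasiCompact_of_compactSpace g
  haveI : IsAffine (U : Scheme.{u}) := hU
  haveI : QuasiCompact U.ι := quasiCompact_of_compactSpace _
  haveI : QuasiCompact U'.ι := quasiCompact_of_compactSpace _
  haveI : QuasiCompact (f ⁻¹ᵁ U).ι :=
    MorphismProperty.of_isPullback (P := @QuasiCompact) (isPullback_morphismRestrict f U).flip.flip ‹_›
  haveI : CompactSpace (f ⁻¹ᵁ U : Scheme.{u}) := QuasiCompact.compactSpace_of_compactSpace (f ⁻¹ᵁ U).ι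
  haveI : QuasiSeparatedSpace (f ⁻¹ᵁ U : Scheme.{u}) := quasiSeparatedSpace_of_quasiSeparated (f ⁻¹ᵁ U).ι
  haveI := DCohRestrLib.hasRpush (f ⁻¹ᵁ U).ι
  have hi : DCoh.RpushPreservesQCoh (f ⁻¹ᵁ U).ι := fun K hK => QRlimLib.isQCohD_rpush _ hK
  haveI : ∀ I : Type u, PreservesColimitsOfShape (Discrete I) A := fun I => by
    haveI := preservesCoproducts_rpushQ U'.ι hj I
    haveI := preservesCoproducts_rpushQ g hg I
    haveI := preservesCoproducts_rpushQ _ hg₁ I
    haveI : PreservesColimitsOfShape (Discrete I) (restrictQ (f ⁻¹ᵁ U).ι) :=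
      haveI := (restrictQAdj (f ⁻¹ᵁ U).ι hi).isLeftAdjoint
      inferInstance
    haveI : HasCoproducts.{u} (DCoh.DQCoh (f' ⁻¹ᵁ U' : Scheme.{u})) := fun J => KoszOrthLib.hasCoproductsQ J
    haveI := reflectsIso_rpushQ_affine _ hg₁
    haveI := reflectsColimitsOfShape_of_reflectsIsomorphisms (J := Discrete I) (G := DCoh.RpushQ _ hg₁)
    haveI : PreservesColimitsOfShape (Discrete I) (A ⋙ DCoh.RpushQ _ hg₁) :=
      preservesColimitsOfShape_of_natIso e'.symm
    exact preservesColimitsOfShape_of_reflects_of_preserves A (DCoh.RpushQ _ hg₁)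
  have hP : DCoh.IsPerfect ((DCoh.restrictD U'.ι).obj ((DCoh.Rpush f').obj K)) := by
    obtain ⟨r⟩ := DCohRestrLib.nonempty_restrictD_Rpush f' U'
    exact PerfLib.isPerfect_of_iso (r.app K).symm
      (isPerfect_rpush (f' ∣_ U') h₁ A adj₁ _ (KoszOrthLib.isPerfect_restrictD _ hK))
  obtain ⟨W, w, hw, v, hv, E, hE, ⟨eE⟩⟩ := (PerfLib.isPerfect_iff _).1 hP ⟨y, hyU'⟩
  obtain ⟨c⟩ := PerfLib.nonempty_resD_comp w U'.ι ((DCoh.Rpush f').obj K)
  refine ⟨W, w ≫ U'.ι, inferInstance, v, ?_, E, hE, ⟨c ≪≫ eE⟩⟩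
  rw [Scheme.Hom.comp_apply, hv]
  rfl

end Groth.Agent.TorIndAdjLib
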