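import Groth.Agent.DualFMLib.FlatHom.Xi
import Groth.Agent.DerBCLib.Models
import Groth.Agent.KoszOrthLib.DQCohPush
import Groth.Agent.KoszOrthLib.Adj
import Groth.Agent.KoszOrthLib.Aff

/-!
# Right adjoints of direct images along tor-independent squares
-/

set_option autoImplicit false
set_option linter.style.haveILetI false
set_option linter.unusedSectionVars false
set_option backward.isDefEq.respectTransparency false
set_option backward.isDefEq.respectTransparency.types false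
set_option maxHeartbeats 1000000

universe u

open CategoryTheory CategoryTheory.Limits AlgebraicGeometry

attribute [local instance] HasDerivedCategory.standard

namespace Groth.Agent.TorIndAdjLib

open Groth.Agent.DualFMLib

section Abstract

variable {CX CY CX' CY' : Type*} [Category* CX] [Category* CY] [Category* CX'] [Category* CY']
  {F : CX ⥤ CY} {a : CY ⥤ CX} {F' : CX' ⥤ CY'} {a' : CY' ⥤ CX'} {G : CY ⥤ CY'} {Gr : CY' ⥤ CY}
  {G' : CX ⥤ CX'} {Gr' : CX' ⥤ CX}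

/-- The maps `ξ` of a base change square are natural. -/
theorem nonempty_xiIso (adj : F ⊣ a) (adj' : F' ⊣ a') (e : Gr' ⋙ F ≅ F' ⋙ Gr) (adjg : G ⊣ Gr)
    (adjg' : G' ⊣ Gr')
    (hβ : ∀ T : CX, IsIso ((adjg.homEquiv _ _).symm (F.map (adjg'.unit.app T) ≫ e.hom.app (G'.obj T)))) :
    Nonempty (a' ⋙ Gr' ≅ Gr ⋙ a) := by
  let ξ : ∀ M : CY', Gr'.obj (a'.obj M) ⟶ a.obj (Gr.obj M) := fun M =>
    adj.homEquiv _ _ (e.hom.app _ ≫ Gr.map (adj'.counit.app M))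
  haveI : ∀ M, IsIso (ξ M) := fun M => isIso_xi adj adj' e adjg adjg' M hβ _ rfl
  refine ⟨NatIso.ofComponents (fun M => asIso (ξ M)) fun {M N} u => ?_⟩
  show Gr'.map (a'.map u) ≫ ξ N = ξ M ≫ a.map (Gr.map u)
  dsimp only [ξ]
  rw [← Adjunction.homEquiv_naturality_left, ← Adjunction.homEquiv_naturality_right]
  congr 1
  have h := e.hom.naturality (a'.map u)
  simp only [Functor.comp_map] at h
  rw [reassoc_of% h, Category.assoc, ← Gr.map_comp, ← Gr.map_comp]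
  congr 2
  exact adj'.counit.naturality u

end Abstract

variable {X Y X' Y' : Scheme.{u}} {f : X ⟶ Y} {g : Y' ⟶ Y} {f' : X' ⟶ Y'} {g' : X' ⟶ X}
  [DCoh.HasRpush f] [DCoh.HasRpush f'] [DCoh.HasRpush g] [DCoh.HasRpush g'] [DCoh.HasLpull g]
  [DCoh.HasLpull g'] {hf : DCoh.RpushPreservesQCoh f} {hf' : DCoh.RpushPreservesQCoh f'}
  {hg : DCoh.RpushPreservesQCoh g} {hg' : DCoh.RpushPreservesQCoh g'}
  {hLg : Dual3.LpullPreservesQCoh g} {hLg' : Dual3.LpullPreservesQCoh g'}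

/-- Tor independent base change on `DQCoh`. -/
theorem isIso_bcPush_tor [QuasiCompact f] [QuasiSeparated f] (hsq : IsPullback g' f' f g)
    (htor : ∀ (U : Y.Opens), IsAffineOpen U → ∀ (U' : Y'.Opens), IsAffineOpen U' → ∀ (hU' : U' ≤ g ⁻¹ᵁ U)
      (V : X.Opens), IsAffineOpen V → ∀ (hV : V ≤ f ⁻¹ᵁ U) (i : ℕ), 0 < i →
      Subsingleton (@DRing.Tor Γ(Y, U) _ i Γ(Y', U') Γ(X, V) _ (g.appLE U U' hU').hom.toModule _ (f.appLE U V hV).hom.toModule))
    (adjg : Dual3.LpullQ g hLg ⊣ DCoh.RpushQ g hg) (adjg' : Dual3.LpullQ g' hLg' ⊣ DCoh.RpushQ g' hg')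
    (T : DCoh.DQCoh X) : IsIso (Dual3.bcPush (sqQ hsq.w hf hf' hg hg') adjg adjg' T) := by
  refine isIso_bc_congr (adjg₀ := adjQ hLg hg) (adjg₀' := adjQ hLg' hg') _ T ?_
  have h := DerBCLib.isIso_baseChangeApp hsq (KFlatLib.lpullRpushAdj g) (KFlatLib.lpullRpushAdj g')
    (fun T hT hTq => DerBCLib.hasLocModel_tor hT hTq htor) T.obj T.property
  let β₀ := ((adjQ hLg hg).homEquiv _ _).symm
    ((DCoh.RpushQ f hf).map ((adjQ hLg' hg').unit.app T) ≫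
      (sqQ hsq.w hf hf' hg hg').hom.app ((Dual3.LpullQ g' hLg').obj T))
  have heq : β₀.hom = DCoh.baseChangeApp (KFlatLib.lpullRpushAdj g) (KFlatLib.lpullRpushAdj g')
      (DerBCLib.rpushSqIso hsq.w) T.obj := by
    simp only [β₀, adjQ, Adjunction.mkOfHomEquiv_homEquiv, Equiv.coe_fn_symm_mk]
    change ((KFlatLib.lpullRpushAdj g).homEquiv _ _).symm
      ((DCoh.Rpush f).map _ ≫ (DerBCLib.rpushSqIso hsq.w).hom.app _) = _
    have h0 := adjQ_unit hLg' hg' T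
    simp only [adjQ] at h0
    exact congrArg (fun z => ((KFlatLib.lpullRpushAdj g).homEquiv _ _).symm
      ((DCoh.Rpush f).map z ≫ (DerBCLib.rpushSqIso hsq.w).hom.app _)) h0
  have h' : IsIso β₀.hom := heq.symm ▸ h
  haveI : IsIso ((DCoh.IsQCohD (X := Y')).ι.map β₀) := h'
  exact isIso_of_fully_faithful (DCoh.IsQCohD (X := Y')).ι β₀

section Open

variable {U Z : Scheme.{u}} (j : U ⟶ Z) [IsOpenImmersion j]

/-- Restriction on `DQCoh`. -/
noncomputable abbrev restrictQ : DCoh.DQCoh Z ⥤ DCoh.DQCoh U :=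
  ObjectProperty.lift _ ((DCoh.IsQCohD (X := Z)).ι ⋙ DCoh.restrictD j)
    fun K => KoszOrthLib.isQCohD_restrictD j K.property

variable [DCoh.HasRpush j] (hj : DCoh.RpushPreservesQCoh j)

/-- `j^* ⊣ Rj_*` on `DQCoh`. -/
noncomputable def restrictQAdj : restrictQ j ⊣ DCoh.RpushQ j hj :=
  (KoszOrthLib.restrictRpushAdj j).restrictFullyFaithful (DCoh.IsQCohD (X := Z)).fullyFaithfulι
    (DCoh.IsQCohD (X := U)).fullyFaithfulι (ObjectProperty.liftCompιIso _ _ _).symm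
    (ObjectProperty.liftCompιIso _ _ _).symm

/-- The counit of `j^* ⊣ Rj_*` is invertible. -/
noncomputable def counitQIso : DCoh.RpushQ j hj ⋙ restrictQ j ≅ 𝟭 (DCoh.DQCoh U) :=
  haveI := KoszOrthLib.isIso_counit j (KoszOrthLib.restrictRpushAdj j)
  NatIso.ofComponents
    (fun T => ObjectProperty.isoMk _ ((asIso (KoszOrthLib.restrictRpushAdj j).counit).app T.obj))
    fun {_ _} u => ObjectProperty.hom_ext _ ((KoszOrthLib.restrictRpushAdj j).counit.naturality u.hom)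

end Open

theorem preimage_le {f : X ⟶ Y} {g : Y' ⟶ Y} {f' : X' ⟶ Y'} {g' : X' ⟶ X} (w : g' ≫ f = f' ≫ g)
    {U : Y.Opens} {U' : Y'.Opens} (hle : U' ≤ g ⁻¹ᵁ U) : f' ⁻¹ᵁ U' ≤ g' ⁻¹ᵁ (f ⁻¹ᵁ U) := by
  show f' ⁻¹ᵁ U' ≤ (g' ≫ f) ⁻¹ᵁ U
  rw [w]
  exact fun x hx => hle hx

/-- **The right adjoint over a small affine of the base change.** -/
theorem exists_local [CompactSpace X] [QuasiSeparatedSpace X] [CompactSpace Y] [QuasiSeparatedSpace Y]
    [CompactSpace X'] [QuasiSeparatedSpace X'] [CompactSpace Y'] [QuasiSeparatedSpace Y']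
    (hsq : IsPullback g' f' f g)
    (htor : ∀ (U : Y.Opens), IsAffineOpen U → ∀ (U' : Y'.Opens), IsAffineOpen U' → ∀ (hU' : U' ≤ g ⁻¹ᵁ U)
      (V : X.Opens), IsAffineOpen V → ∀ (hV : V ≤ f ⁻¹ᵁ U) (i : ℕ), 0 < i →
      Subsingleton (@DRing.Tor Γ(Y, U) _ i Γ(Y', U') Γ(X, V) _ (g.appLE U U' hU').hom.toModule _ (f.appLE U V hV).hom.toModule))
    {a : DCoh.DQCoh Y ⥤ DCoh.DQCoh X} {a' : DCoh.DQCoh Y' ⥤ DCoh.DQCoh X'}
    (adj : DCoh.RpushQ f hf ⊣ a) (adj' : DCoh.RpushQ f' hf' ⊣ a')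
    (adjg : Dual3.LpullQ g hLg ⊣ DCoh.RpushQ g hg) (adjg' : Dual3.LpullQ g' hLg' ⊣ DCoh.RpushQ g' hg')
    {U : Y.Opens} (hU : IsAffineOpen U) {U' : Y'.Opens} (hU' : IsAffineOpen U') (hle : U' ≤ g ⁻¹ᵁ U) :
    ∃ (_ : CompactSpace (f' ⁻¹ᵁ U' : Scheme.{u})) (_ : QuasiSeparatedSpace (f' ⁻¹ᵁ U' : Scheme.{u}))
      (_ : DCoh.HasRpush (f' ∣_ U')) (_ : DCoh.HasRpush U'.ι) (_ : DCoh.HasRpush (f' ⁻¹ᵁ U').ι)
      (_ : DCoh.HasRpush (g'.resLE (f ⁻¹ᵁ U) (f' ⁻¹ᵁ U')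
        (preimage_le hsq.w hle)))
      (h₁ : DCoh.RpushPreservesQCoh (f' ∣_ U')) (hj : DCoh.RpushPreservesQCoh U'.ι)
      (hj' : DCoh.RpushPreservesQCoh (f' ⁻¹ᵁ U').ι)
      (hg₁ : DCoh.RpushPreservesQCoh (g'.resLE (f ⁻¹ᵁ U) (f' ⁻¹ᵁ U')
        (preimage_le hsq.w hle)))
      (A : DCoh.DQCoh (U' : Scheme.{u}) ⥤ DCoh.DQCoh (f' ⁻¹ᵁ U' : Scheme.{u}))
      (_ : DCoh.RpushQ (f' ∣_ U') h₁ ⊣ A),
      IsAffineHom (g'.resLE (f ⁻¹ᵁ U) (f' ⁻¹ᵁ U')
        (preimage_le hsq.w hle)) ∧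
      Nonempty (A ⋙ DCoh.RpushQ _ hj' ≅ DCoh.RpushQ _ hj ⋙ a') ∧
      Nonempty (A ⋙ DCoh.RpushQ _ hg₁ ≅
        DCoh.RpushQ _ hj ⋙ DCoh.RpushQ g hg ⋙ a ⋙ restrictQ (f ⁻¹ᵁ U).ι) := by
  haveI : QuasiCompact f := quasiCompact_of_compactSpace f
  haveI : QuasiSeparated f := inferInstance
  haveI : QuasiCompact f' := quasiCompact_of_compactSpace f'
  haveI : QuasiSeparated f' := inferInstance
  haveI : IsAffine (U : Scheme.{u}) := hU
  haveI : IsAffine (U' : Scheme.{u}) := hU'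
  let V' := f' ⁻¹ᵁ U'
  let V := f ⁻¹ᵁ U
  haveI : QuasiCompact U'.ι := quasiCompact_of_compactSpace _
  haveI : QuasiCompact U.ι := quasiCompact_of_compactSpace _
  haveI : QuasiCompact V'.ι :=
    MorphismProperty.of_isPullback (P := @QuasiCompact) (isPullback_morphismRestrict f' U').flip.flip ‹_›
  haveI : QuasiCompact V.ι :=
    MorphismProperty.of_isPullback (P := @QuasiCompact) (isPullback_morphismRestrict f U).flip.flip ‹_›
  haveI : CompactSpace (V' : Scheme.{u}) := QuasiCompact.compactSpace_of_compactSpace V'.ι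
  haveI : QuasiSeparatedSpace (V' : Scheme.{u}) := quasiSeparatedSpace_of_quasiSeparated V'.ι
  have hle' : V' ≤ g' ⁻¹ᵁ V := preimage_le hsq.w hle
  let g₁ : (U' : Scheme.{u}) ⟶ (U : Scheme.{u}) := g.resLE U U' hle
  let g₁' : (V' : Scheme.{u}) ⟶ (V : Scheme.{u}) := g'.resLE V V' hle'
  have hp : g₁' ≫ (f ∣_ U) = (f' ∣_ U') ≫ g₁ := by
    rw [← cancel_mono U.ι, Category.assoc, Category.assoc, morphismRestrict_ι, Scheme.Hom.resLE_comp_ι,
      Scheme.Hom.resLE_comp_ι_assoc, hsq.w, morphismRestrict_ι_assoc]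
  have hsq₁ : IsPullback g₁' (f' ∣_ U') (f ∣_ U) g₁ := by
    refine IsPullback.of_right ?_ hp (isPullback_morphismRestrict f U).flip
    rw [Scheme.Hom.resLE_comp_ι, Scheme.Hom.resLE_comp_ι]
    exact (isPullback_morphismRestrict f' U').flip.paste_horiz hsq
  haveI : IsAffineHom g₁ := inferInstance
  haveI : IsAffineHom g₁' := MorphismProperty.of_isPullback (P := @IsAffineHom) hsq₁.flip inferInstance
  haveI : QuasiCompact (f' ∣_ U') := inferInstance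
  haveI : QuasiSeparated (f' ∣_ U') := inferInstance
  haveI := DCohRestrLib.hasRpush (f' ∣_ U')
  haveI := DCohRestrLib.hasRpush U'.ι
  haveI := DCohRestrLib.hasRpush V'.ι
  haveI := DCohRestrLib.hasRpush V.ι
  haveI := DCohRestrLib.hasRpush g₁'
  haveI := KFlatLib.hasLpull U'.ι
  haveI := KFlatLib.hasLpull V'.ι
  have h₁ : DCoh.RpushPreservesQCoh (f' ∣_ U') := fun K hK => QRlimLib.isQCohD_rpush _ hK
  have hj : DCoh.RpushPreservesQCoh U'.ι := fun K hK => QRlimLib.isQCohD_rpush _ hK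
  have hj' : DCoh.RpushPreservesQCoh V'.ι := fun K hK => QRlimLib.isQCohD_rpush _ hK
  have hi : DCoh.RpushPreservesQCoh V.ι := fun K hK => QRlimLib.isQCohD_rpush _ hK
  have hg₁ : DCoh.RpushPreservesQCoh g₁' := fun K hK => QRlimLib.isQCohD_rpush _ hK
  have hLj : Dual3.LpullPreservesQCoh U'.ι := fun K hK => KFlatLib.isQCohD_lpull _ K hK
  have hLj' : Dual3.LpullPreservesQCoh V'.ι := fun K hK => KFlatLib.isQCohD_lpull _ K hK
  haveI := KoszOrthLib.isLeftAdjoint_rpushQ (f' ∣_ U') h₁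
  let F₁ := DCoh.RpushQ (f' ∣_ U') h₁
  let adj₁ : F₁ ⊣ F₁.rightAdjoint := Adjunction.ofIsLeftAdjoint F₁
  have hsqj : IsPullback V'.ι (f' ∣_ U') f' U'.ι := (isPullback_morphismRestrict f' U').flip
  obtain ⟨ej⟩ := nonempty_xiIso adj' adj₁ (sqQ hsqj.w hf' h₁ hj hj') (adjQ hLj hj) (adjQ hLj' hj')
    fun T => isIso_bcPush (adjQ hLj hj) (adjQ hLj' hj') hsqj T
  obtain ⟨eg⟩ := nonempty_xiIso adj adj' (sqQ hsq.w hf hf' hg hg') adjg adjg'
    fun T => isIso_bcPush_tor hsq htor adjg adjg' T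
  let ec : DCoh.RpushQ V'.ι hj' ⋙ DCoh.RpushQ g' hg' ≅ DCoh.RpushQ g₁' hg₁ ⋙ DCoh.RpushQ V.ι hi :=
    sqQ (Scheme.Hom.resLE_comp_ι g' hle').symm hg' hg₁ hi hj'
  refine ⟨inferInstance, inferInstance, inferInstance, inferInstance, inferInstance, inferInstance,
    h₁, hj, hj', hg₁, F₁.rightAdjoint, adj₁, inferInstance, ⟨ej⟩, ⟨?_⟩⟩
  exact (Functor.rightUnitor _).symm ≪≫ Functor.isoWhiskerLeft _ (counitQIso V.ι hi).symm ≪≫
    (Functor.associator _ _ _).symm ≪≫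
    Functor.isoWhiskerRight (Functor.associator _ _ _ ≪≫ Functor.isoWhiskerLeft _ ec.symm ≪≫
      (Functor.associator _ _ _).symm ≪≫ Functor.isoWhiskerRight ej _ ≪≫ Functor.associator _ _ _ ≪≫
      Functor.isoWhiskerLeft _ eg) (restrictQ V.ι) ≪≫ Functor.associator _ _ _ ≪≫
    Functor.isoWhiskerLeft _ (Functor.associator _ _ _)

end Groth.Agent.TorIndAdjLib
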